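import Mathlib.RingTheory.AdjoinRoot
import Mathlib.Algebra.Category.Ring.Basic
import Mathlib.Algebra.Category.Ring.Constructions

/-!
The algebras `A[T]/(T^d - a)` and their changes of the base ring.
-/

set_option autoImplicit false

universe u

open CategoryTheory CategoryTheory.Limits Polynomial

namespace Groth.Agent.CycCover

/-- The algebra `A[T]/(T^d - a)`. -/
abbrev Rt {A : Type u} [CommRing A] (d : ℕ) (a : A) : Type u := AdjoinRoot ((X : A[X]) ^ d - C a)

variable {A B S : Type u} [CommRing A] [CommRing B] [CommRing S] {d : ℕ} {a : A}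

/-- The distinguished root. -/
noncomputable abbrev rt (d : ℕ) (a : A) : Rt d a := AdjoinRoot.root _

theorem rt_pow (d : ℕ) (a : A) : rt d a ^ d = algebraMap A (Rt d a) a := by
  have h := AdjoinRoot.eval₂_root ((X : A[X]) ^ d - C a)
  rw [eval₂_sub, eval₂_X_pow, eval₂_C, sub_eq_zero] at h
  rw [AdjoinRoot.algebraMap_eq]
  exact h

theorem isUnit_rt (hd : 0 < d) (ha : IsUnit a) : IsUnit (rt d a) :=
  (isUnit_pow_iff hd.ne').1 (rt_pow d a ▸ ha.map _)

/-- A ring map out of the algebra. -/
noncomputable def hom (i : A →+* S) (x : S) (h : x ^ d = i a) : Rt d a →+* S :=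
  AdjoinRoot.lift i x (by rw [eval₂_sub, eval₂_X_pow, eval₂_C, h, sub_self])

theorem hom_rt (i : A →+* S) (x : S) (h : x ^ d = i a) : hom i x h (rt d a) = x := AdjoinRoot.lift_root _

theorem hom_alg (i : A →+* S) (x : S) (h : x ^ d = i a) (r : A) : hom i x h (algebraMap A (Rt d a) r) = i r := by
  rw [AdjoinRoot.algebraMap_eq]
  exact AdjoinRoot.lift_of _

theorem hom_ext {f g : Rt d a →+* S} (h : ∀ r, f (algebraMap A (Rt d a) r) = g (algebraMap A (Rt d a) r))
    (h' : f (rt d a) = g (rt d a)) : f = g := by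
  refine Ideal.Quotient.ringHom_ext (Polynomial.ringHom_ext (fun r => ?_) h')
  have := h r
  rw [AdjoinRoot.algebraMap_eq, ← AdjoinRoot.mk_C] at this
  exact this

/-- Change of the base ring, scaling the root. -/
noncomputable def map (f : A →+* B) (a' : B) (b : B) (h : a' * b ^ d = f a) : Rt d a →+* Rt d a' :=
  hom ((algebraMap B (Rt d a')).comp f) (algebraMap B (Rt d a') b * rt d a') (by
    rw [mul_pow, rt_pow, ← map_pow, ← map_mul, mul_comm, h, RingHom.comp_apply])

theorem map_rt (f : A →+* B) (a' : B) (b : B) (h : a' * b ^ d = f a) :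
    map f a' b h (rt d a) = algebraMap B (Rt d a') b * rt d a' := hom_rt _ _ _

theorem map_alg (f : A →+* B) (a' : B) (b : B) (h : a' * b ^ d = f a) (r : A) :
    map f a' b h (algebraMap A (Rt d a) r) = algebraMap B (Rt d a') (f r) := hom_alg _ _ _ r

theorem isPushout (f : A →+* B) (a' : B) (b : B) (hb : IsUnit b) (h : a' * b ^ d = f a) :
    IsPushout (CommRingCat.ofHom f) (CommRingCat.ofHom (algebraMap A (Rt d a)))
      (CommRingCat.ofHom (algebraMap B (Rt d a'))) (CommRingCat.ofHom (map f a' b h)) := by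
  obtain ⟨b', hb'⟩ := hb.exists_left_inv
  have sq : CommRingCat.ofHom f ≫ CommRingCat.ofHom (algebraMap B (Rt d a')) =
      CommRingCat.ofHom (algebraMap A (Rt d a)) ≫ CommRingCat.ofHom (map f a' b h) :=
    CommRingCat.hom_ext (RingHom.ext fun r => (map_alg f a' b h r).symm)
  have hs : ∀ (s : PushoutCocone (CommRingCat.ofHom f) (CommRingCat.ofHom (algebraMap A (Rt d a)))),
      (s.inl.hom b' * s.inr.hom (rt d a)) ^ d = s.inl.hom a' := fun s => by
    have hc := ConcreteCategory.congr_hom s.condition a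
    change s.inl.hom (f a) = s.inr.hom (algebraMap A (Rt d a) a) at hc
    rw [mul_pow, ← map_pow, ← map_pow, rt_pow, ← hc, ← map_mul]
    congr 1
    rw [← h, mul_left_comm, ← mul_pow, hb', one_pow, mul_one]
  refine IsPushout.of_isColimit' ⟨sq⟩ (PushoutCocone.IsColimit.mk _
    (fun s => CommRingCat.ofHom (hom s.inl.hom _ (hs s))) (fun s => ?_) (fun s => ?_) fun s m h1 h2 => ?_)
  · exact CommRingCat.hom_ext (RingHom.ext fun r => hom_alg _ _ (hs s) r)
  · refine CommRingCat.hom_ext (hom_ext (fun r => ?_) ?_)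
    · show hom _ _ (hs s) (map f a' b h (algebraMap A (Rt d a) r)) = _
      rw [map_alg, hom_alg]
      exact ConcreteCategory.congr_hom s.condition r
    · show hom _ _ (hs s) (map f a' b h (rt d a)) = _
      rw [map_rt, map_mul, hom_alg, hom_rt, ← mul_assoc, ← map_mul, mul_comm b, hb', map_one, one_mul]
  · have e1 : ∀ r, m.hom (algebraMap B (Rt d a') r) = s.inl.hom r := fun r => ConcreteCategory.congr_hom h1 r
    have e2 : m.hom (map f a' b h (rt d a)) = s.inr.hom (rt d a) := ConcreteCategory.congr_hom h2 _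
    refine CommRingCat.hom_ext (hom_ext (fun r => ?_) ?_)
    · show m.hom _ = hom _ _ (hs s) _
      rw [hom_alg]
      exact e1 r
    · show m.hom _ = hom _ _ (hs s) _
      rw [hom_rt, ← e2, map_rt, map_mul, e1, ← mul_assoc, ← map_mul, hb', map_one, one_mul]

/-- Every element is uniquely a combination of the powers of the root below the degree. -/
theorem existsUnique_repr (hd : 0 < d) (a : A) (z : Rt d a) :
    ∃! c : Fin d → A, z = ∑ i, algebraMap A (Rt d a) (c i) * rt d a ^ (i : ℕ) := by
  rcases subsingleton_or_nontrivial A with hA | hA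
  · have : Subsingleton (Rt d a) := Module.subsingleton A _
    exact ⟨fun _ => 0, Subsingleton.elim _ _, fun c _ => Subsingleton.elim _ _⟩
  have hm : ((X : A[X]) ^ d - C a).Monic := monic_X_pow_sub_C a hd.ne'
  let pb := AdjoinRoot.powerBasis' hm
  have hdim : pb.dim = d := natDegree_X_pow_sub_C
  let B := pb.basis.reindex (finCongr hdim)
  have hB : ∀ i, B i = rt d a ^ (i : ℕ) := fun i => by
    simp only [B, Module.Basis.reindex_apply, PowerBasis.basis_eq_pow]
    rfl
  refine ⟨B.repr z, ?_, fun c hc => ?_⟩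
  · show z = _
    conv_lhs => rw [← B.sum_repr z]
    simp only [hB, Algebra.smul_def]
  · funext i
    have : z = ∑ i, c i • B i := by simpa only [hB, Algebra.smul_def] using hc
    rw [this, B.repr_sum_self]

end Groth.Agent.CycCover
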