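import Groth.Agent.CycCover.Alg
import Groth.Agent.LineTotal.Props
import Groth.Agent.AModX.Res
import Groth.Agent.Hensel.EtaleResidueExt
import Groth.Prelude.Def_Mor2
import Mathlib.AlgebraicGeometry.RelativeGluing
import Mathlib.AlgebraicGeometry.Morphisms.FlatRank
import Mathlib.AlgebraicGeometry.Morphisms.Etale

/-!
Cyclic covers glued from the algebras `Γ(X, W)[T]/(T^d - a_W)`.
-/

set_option autoImplicit false
set_option linter.style.haveILetI false
set_option linter.unusedSectionVars false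
set_option backward.isDefEq.respectTransparency false
set_option backward.isDefEq.respectTransparency.types false

universe u

open CategoryTheory CategoryTheory.Limits AlgebraicGeometry TopologicalSpace

namespace Groth.Agent.CycCover

open Groth.Agent Groth.Agent.AModX

/-- The data of a cyclic cover of degree `d`. -/
structure Datum (X : Scheme.{u}) (d : ℕ) where
  /-- the small affine opens -/
  P : X.affineOpens → Prop
  cover : ∀ {O : X.Opens} {x : X}, x ∈ O → ∃ W : {W // P W}, x ∈ W.1.1 ∧ W.1.1 ≤ O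
  /-- the radicand -/
  a : ∀ W : {W // P W}, Γ(X, W.1.1)
  a_unit : ∀ W, IsUnit (a W)
  /-- the transition -/
  b : ∀ W W' : {W // P W}, W.1.1 ≤ W'.1.1 → Γ(X, W.1.1)
  b_unit : ∀ W W' h, IsUnit (b W W' h)
  b_self : ∀ W h, b W W h = 1
  b_comp : ∀ (W W' W'' : {W // P W}) (h : W.1.1 ≤ W'.1.1) (h' : W'.1.1 ≤ W''.1.1),
    b W W'' (h.trans h') = b W W' h * resR h (b W' W'' h')
  b_pow : ∀ W W' h, a W * b W W' h ^ d = resR h (a W')

variable {X : Scheme.{u}} {d : ℕ} (D : Datum X d)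

/-- The small opens. -/
abbrev Datum.Idx : Type u := {W : X.affineOpens // D.P W}

/-- The algebra over a small open. -/
abbrev Datum.R (W : D.Idx) : Type u := Rt d (D.a W)

/-- The restriction. -/
noncomputable def Datum.φ {W W' : D.Idx} (h : W.1.1 ≤ W'.1.1) : D.R W' →+* D.R W :=
  map (resR h) (D.a W) (D.b W W' h) (D.b_pow W W' h)

theorem Datum.φ_alg {W W' : D.Idx} (h : W.1.1 ≤ W'.1.1) (r : Γ(X, W'.1.1)) :
    D.φ h (algebraMap _ (D.R W') r) = algebraMap _ (D.R W) (resR h r) := map_alg _ _ _ _ r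

theorem Datum.φ_rt {W W' : D.Idx} (h : W.1.1 ≤ W'.1.1) :
    D.φ h (rt d (D.a W')) = algebraMap _ (D.R W) (D.b W W' h) * rt d (D.a W) := map_rt _ _ _ _

theorem Datum.φ_self (W : D.Idx) (h : W.1.1 ≤ W.1.1) : D.φ h = RingHom.id _ :=
  hom_ext (fun r => by rw [D.φ_alg, resR_self, RingHom.id_apply])
    (by rw [D.φ_rt, D.b_self, map_one, one_mul, RingHom.id_apply])

theorem Datum.φ_comp {W W' W'' : D.Idx} (h : W.1.1 ≤ W'.1.1) (h' : W'.1.1 ≤ W''.1.1) :
    (D.φ h).comp (D.φ h') = D.φ (h.trans h') :=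
  hom_ext (fun r => by rw [RingHom.comp_apply, D.φ_alg, D.φ_alg, D.φ_alg, resR_resR])
    (by rw [RingHom.comp_apply, D.φ_rt, map_mul, D.φ_alg, D.φ_rt, D.φ_rt, D.b_comp W W' W'' h h', map_mul]; ring)

/-- The cover by the small opens. -/
@[simps I₀ X f]
def Datum.cov : X.OpenCover where
  I₀ := D.Idx
  X W := W.1.1.toScheme
  f W := W.1.1.ι
  mem₀ := by
    rw [Scheme.presieve₀_mem_precoverage_iff]
    refine ⟨fun x => ?_, inferInstance⟩
    obtain ⟨W, hW, -⟩ := D.cover (O := ⊤) (x := x) trivial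
    exact ⟨W, ⟨⟨x, hW⟩, rfl⟩⟩

instance : Preorder D.cov.I₀ := inferInstanceAs (Preorder D.Idx)

noncomputable instance : D.cov.LocallyDirected :=
  .ofIsBasisOpensRange (by intros; simp) <| by
    refine Opens.isBasis_iff_nbhd.2 fun {O x} hx => ?_
    obtain ⟨W, hW, hle⟩ := D.cover hx
    exact ⟨W.1.1, ⟨W, by simp⟩, hW, hle⟩

instance : Quiver.IsThin D.cov.I₀ := fun _ _ => inferInstanceAs (Subsingleton (_ ⟶ _))

instance : Small.{u} D.cov.I₀ := inferInstanceAs (Small.{u} D.Idx)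

/-- The structure map of the algebra. -/
noncomputable abbrev Datum.q (W : D.Idx) : Spec (CommRingCat.of (D.R W)) ⟶ Spec Γ(X, W.1.1) :=
  Spec.map (CommRingCat.ofHom (algebraMap Γ(X, W.1.1) (D.R W)))

theorem map_res_isoSpec {W W' : D.Idx} (h : W.1.1 ≤ W'.1.1) :
    Spec.map (CommRingCat.ofHom (resR h)) ≫ W'.1.2.isoSpec.inv = W.1.2.isoSpec.inv ≫ X.homOfLE h := by
  rw [← cancel_mono W'.1.1.ι, Category.assoc, Category.assoc, Scheme.homOfLE_ι, IsAffineOpen.isoSpec_inv_ι,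
    IsAffineOpen.isoSpec_inv_ι]
  exact IsAffineOpen.map_fromSpec W'.1.2 W.1.2 (homOfLE h).op

theorem Datum.trans_eq {W W' : D.cov.I₀} (h : W ⟶ W') (hle : (W : D.Idx).1.1 ≤ (W' : D.Idx).1.1) :
    X.homOfLE hle = D.cov.functorOfLocallyDirected.map h := by
  rw [← cancel_mono (W' : D.Idx).1.1.ι, Scheme.homOfLE_ι]
  exact (Scheme.Cover.trans_map D.cov h).symm

theorem Datum.φ_q {W W' : D.Idx} (h : W.1.1 ≤ W'.1.1) :
    Spec.map (CommRingCat.ofHom (D.φ h)) ≫ D.q W' ≫ W'.1.2.isoSpec.inv =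
      (D.q W ≫ W.1.2.isoSpec.inv) ≫ X.homOfLE h := by
  rw [Category.assoc, ← map_res_isoSpec D h, ← Spec.map_comp_assoc, ← Spec.map_comp_assoc]
  congr 2
  exact CommRingCat.hom_ext (RingHom.ext fun r => D.φ_alg h r)

theorem Datum.isPullback_φ {W W' : D.Idx} (h : W.1.1 ≤ W'.1.1) :
    IsPullback (Spec.map (CommRingCat.ofHom (D.φ h))) (D.q W ≫ W.1.2.isoSpec.inv)
      (D.q W' ≫ W'.1.2.isoSpec.inv) (X.homOfLE h) := by
  have hP := (isPullback_SpecMap_of_isPushout _ _ _ _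
    (isPushout (resR h) (D.a W) (D.b W W' h) (D.b_unit W W' h) (D.b_pow W W' h))).flip
  refine hP.of_iso (Iso.refl _) (Iso.refl _) W.1.2.isoSpec.symm W'.1.2.isoSpec.symm ?_ ?_ ?_ ?_
  · simp only [Iso.refl_hom, Category.comp_id, Category.id_comp]
    rfl
  · simp only [Iso.refl_hom, Category.id_comp, Iso.symm_hom]
  · simp only [Iso.refl_hom, Category.id_comp, Iso.symm_hom]
  · simp only [Iso.symm_hom]
    exact map_res_isoSpec D h

/-- The map of spectra. -/
noncomputable def Datum.sm (W W' : D.Idx) (h : W.1.1 ≤ W'.1.1) :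
    Spec (CommRingCat.of (D.R W)) ⟶ Spec (CommRingCat.of (D.R W')) :=
  Spec.map (CommRingCat.ofHom (D.φ h))

theorem Datum.sm_self (W : D.Idx) (h : W.1.1 ≤ W.1.1) : D.sm W W h = 𝟙 _ := by
  show Spec.map (CommRingCat.ofHom (D.φ h)) = _
  rw [D.φ_self, CommRingCat.ofHom_id, Spec.map_id]

theorem Datum.sm_comp (W W' W'' : D.Idx) (h : W.1.1 ≤ W'.1.1) (h' : W'.1.1 ≤ W''.1.1) :
    D.sm W W'' (h.trans h') = D.sm W W' h ≫ D.sm W' W'' h' := by
  show Spec.map (CommRingCat.ofHom (D.φ (h.trans h'))) = _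
  rw [← D.φ_comp h h', CommRingCat.ofHom_comp, Spec.map_comp]
  rfl

theorem Datum.sm_q {W W' : D.Idx} (h : W.1.1 ≤ W'.1.1) :
    D.sm W W' h ≫ D.q W' ≫ W'.1.2.isoSpec.inv = (D.q W ≫ W.1.2.isoSpec.inv) ≫ X.homOfLE h :=
  D.φ_q h

theorem Datum.isPullback_sm {W W' : D.Idx} (h : W.1.1 ≤ W'.1.1) :
    IsPullback (D.sm W W' h) (D.q W ≫ W.1.2.isoSpec.inv) (D.q W' ≫ W'.1.2.isoSpec.inv) (X.homOfLE h) :=
  D.isPullback_φ h

theorem Datum.le_of_hom {W W' : D.cov.I₀} (h : W ⟶ W') : (W : D.Idx).1.1 ≤ (W' : D.Idx).1.1 :=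
  (leOfHom h : W ≤ W')

section

attribute [local irreducible] Datum.φ Datum.sm

/-- The functor of charts. -/
noncomputable def Datum.chartFunctor : D.cov.I₀ ⥤ Scheme.{u} where
  obj W := Spec (CommRingCat.of (D.R W))
  map {W W'} h := D.sm W W' (D.le_of_hom h)
  map_id W := D.sm_self W _
  map_comp {W W' W''} h h' := D.sm_comp W W' W'' (D.le_of_hom h) (D.le_of_hom h')

/-- The glueing datum. -/
noncomputable def Datum.datum : D.cov.RelativeGluingData where
  functor := D.chartFunctor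
  natTrans :=
    { app := fun W => D.q W ≫ (W : D.Idx).1.2.isoSpec.inv
      naturality := fun {W W'} h =>
        (D.sm_q (D.le_of_hom h)).trans
          (congrArg ((D.q W ≫ (W : D.Idx).1.2.isoSpec.inv) ≫ ·) (D.trans_eq h (D.le_of_hom h))) }
  equifibered := fun {W W'} h => by
    have := D.isPullback_sm (D.le_of_hom h)
    rw [D.trans_eq h (D.le_of_hom h)] at this
    exact this

end

/-- The cover. -/
noncomputable def Datum.space : Scheme.{u} := D.datum.glued

/-- The projection. -/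
noncomputable def Datum.proj : D.space ⟶ X := D.datum.toBase

/-- The chart over a small open. -/
noncomputable def Datum.chart (W : D.Idx) : Spec (CommRingCat.of (D.R W)) ⟶ D.space :=
  colimit.ι D.datum.functor W

theorem Datum.chart_map {W W' : D.Idx} (h : W.1.1 ≤ W'.1.1) :
    Spec.map (CommRingCat.ofHom (D.φ h)) ≫ D.chart W' = D.chart W := by
  have := colimit.w D.datum.functor (homOfLE (show (W : D.cov.I₀) ≤ W' from h))
  show D.sm W W' h ≫ D.chart W' = D.chart W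
  exact this

theorem Datum.isPullback_chart (W : D.Idx) :
    IsPullback (D.q W) (D.chart W) W.1.2.fromSpec D.proj := by
  have hW : IsPullback (D.q W ≫ W.1.2.isoSpec.inv) (D.chart W) W.1.1.ι D.proj :=
    D.datum.isPullback_natTrans_ι_toBase W
  refine hW.of_iso (Iso.refl _) W.1.2.isoSpec (Iso.refl _) (Iso.refl _) ?_ ?_ ?_ ?_
  · simp
  · simp
  · simp [IsAffineOpen.isoSpec_hom_fromSpec]
  · simp

theorem Datum.exists_opensRange (W : D.Idx) :
    ∃ _ : IsOpenImmersion (D.chart W), (D.chart W).opensRange = D.proj ⁻¹ᵁ W.1.1 :=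
  LineTotal.opensRange_of_isPullback (D.isPullback_chart W) W.1.2.opensRange_fromSpec

theorem Datum.le_chart (W : D.Idx) : ⊤ ≤ (D.chart W) ⁻¹ᵁ (D.proj ⁻¹ᵁ W.1.1) := fun x _ => by
  obtain ⟨_, h⟩ := D.exists_opensRange W
  exact h.le ⟨x, rfl⟩

/-- Functions over a small open. -/
noncomputable def Datum.θ (W : D.Idx) : Γ(D.space, D.proj ⁻¹ᵁ W.1.1) →+* D.R W :=
  ((D.chart W).appLE (D.proj ⁻¹ᵁ W.1.1) ⊤ (D.le_chart W) ≫ (Scheme.ΓSpecIso _).hom).hom

theorem Datum.θ_bijective (W : D.Idx) : Function.Bijective (D.θ W) := by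
  obtain ⟨_, h⟩ := D.exists_opensRange W
  exact (ConcreteCategory.bijective_of_isIso (Scheme.ΓSpecIso (CommRingCat.of (D.R W))).hom).comp
    (LineTotal.bijective_appLE (D.chart W) h.symm (D.le_chart W))

theorem fromSpec_appLE_top {U : X.Opens} (hU : IsAffineOpen U) (h : ⊤ ≤ hU.fromSpec ⁻¹ᵁ U) :
    hU.fromSpec.appLE U ⊤ h = (Scheme.ΓSpecIso Γ(X, U)).inv := by
  rw [Scheme.Hom.appLE, hU.fromSpec_app_self, Category.assoc, ← Functor.map_comp]
  exact (congrArg ((Scheme.ΓSpecIso Γ(X, U)).inv ≫ ·)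
    (show (Spec Γ(X, U)).presheaf.map _ = 𝟙 _ from (Spec Γ(X, U)).presheaf.map_id _)).trans (Category.comp_id _)

theorem Datum.θ_app (W : D.Idx) (r : Γ(X, W.1.1)) :
    D.θ W (D.proj.app W.1.1 r) = algebraMap _ (D.R W) r := by
  have h1 := LineTotal.appLE_app (O := W.1.1) (D.isPullback_chart W).w
    (W.1.2.fromSpec_preimage_self.ge) (D.le_chart W) r
  show (Scheme.ΓSpecIso _).hom ((D.chart W).appLE _ ⊤ (D.le_chart W) (D.proj.app W.1.1 r)) = _
  rw [h1, fromSpec_appLE_top]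
  have h2 := ConcreteCategory.congr_hom
    (Scheme.ΓSpecIso_inv_naturality (CommRingCat.ofHom (algebraMap Γ(X, W.1.1) (D.R W)))) r
  exact (congrArg (Scheme.ΓSpecIso _).hom h2.symm).trans (Iso.inv_hom_id_apply _ _)

theorem appLE_spec_map {S : Scheme.{u}} {A B : CommRingCat.{u}} (f : A ⟶ B) (cA : Spec A ⟶ S) (cB : Spec B ⟶ S)
    (h : Spec.map f ≫ cA = cB) {O' O : S.Opens} (hO : O ≤ O') (hA : ⊤ ≤ cA ⁻¹ᵁ O') (hB : ⊤ ≤ cB ⁻¹ᵁ O) :
    S.presheaf.map (homOfLE hO).op ≫ cB.appLE O ⊤ hB ≫ (Scheme.ΓSpecIso B).hom =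
      cA.appLE O' ⊤ hA ≫ (Scheme.ΓSpecIso A).hom ≫ f := by
  subst h
  rw [Scheme.Hom.map_appLE_assoc, ← Scheme.Hom.appLE_comp_appLE (Spec.map f) cA O' ⊤ ⊤ hA le_top,
    Category.assoc, show (Spec.map f).appLE ⊤ ⊤ le_top = (Spec.map f).appTop by simp [Scheme.Hom.appLE],
    Scheme.ΓSpecIso_naturality]

theorem Datum.θ_res {W W' : D.Idx} (h : W.1.1 ≤ W'.1.1) (s : Γ(D.space, D.proj ⁻¹ᵁ W'.1.1)) :
    D.θ W (resR (D.proj.preimage_mono h) s) = D.φ h (D.θ W' s) :=
  ConcreteCategory.congr_hom (appLE_spec_map (CommRingCat.ofHom (D.φ h)) (D.chart W') (D.chart W)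
    (D.chart_map h) (D.proj.preimage_mono h) (D.le_chart W') (D.le_chart W)) s

/-- The root, as a function on the preimage. -/
noncomputable def Datum.T (W : D.Idx) : Γ(D.space, D.proj ⁻¹ᵁ W.1.1) :=
  (RingEquiv.ofBijective (D.θ W) (D.θ_bijective W)).symm (rt d (D.a W))

theorem Datum.θ_T (W : D.Idx) : D.θ W (D.T W) = rt d (D.a W) :=
  (RingEquiv.ofBijective (D.θ W) (D.θ_bijective W)).apply_symm_apply _

theorem Datum.res_T {W W' : D.Idx} (h : W.1.1 ≤ W'.1.1) :
    resR (D.proj.preimage_mono h) (D.T W') = D.proj.app W.1.1 (D.b W W' h) * D.T W := by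
  apply (D.θ_bijective W).1
  rw [D.θ_res h, map_mul, D.θ_app, D.θ_T, D.θ_T, D.φ_rt]

theorem Datum.isUnit_T (hd : 0 < d) (W : D.Idx) : IsUnit (D.T W) :=
  (isUnit_rt hd (D.a_unit W)).map (RingEquiv.ofBijective (D.θ W) (D.θ_bijective W)).symm

theorem Datum.iSup_eq_top : ⨆ W : D.Idx, W.1.1 = ⊤ :=
  eq_top_iff.2 fun x _ => Opens.mem_iSup.2 ⟨_, (D.cover (O := ⊤) (x := x) trivial).choose_spec.1⟩

/-- Properties local on the target hold once they hold of the algebras. -/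
theorem Datum.prop_proj {P : MorphismProperty Scheme.{u}} [IsZariskiLocalAtTarget P] [P.IsStableUnderBaseChange]
    (h : ∀ W, P (D.q W)) : P D.proj := by
  refine IsZariskiLocalAtTarget.of_iSup_eq_top (P := P) _ D.iSup_eq_top fun W => ?_
  have h2 := isPullback_morphismRestrict D.proj W.1.1
  have hW : IsPullback (D.q W ≫ W.1.2.isoSpec.inv) (D.chart W) W.1.1.ι D.proj :=
    D.datum.isPullback_natTrans_ι_toBase W
  rw [show D.proj ∣_ W.1.1 = (h2.isoIsPullback _ _ hW).hom ≫ (D.q W ≫ W.1.2.isoSpec.inv) from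
    (h2.isoIsPullback_hom_fst _ _ hW).symm]
  rw [P.cancel_left_of_respectsIso, P.cancel_right_of_respectsIso]
  exact h W

theorem Datum.finite_alg (hd : 0 < d) (W : D.Idx) :
    Module.Finite Γ(X, W.1.1) (D.R W) ∧ Module.Free Γ(X, W.1.1) (D.R W) :=
  ⟨(AdjoinRoot.powerBasis' (Polynomial.monic_X_pow_sub_C (D.a W) hd.ne')).finite,
    .of_basis (AdjoinRoot.powerBasis' (Polynomial.monic_X_pow_sub_C (D.a W) hd.ne')).basis⟩

theorem Datum.isFinLocFreeOfDeg (hd : 0 < d) : Mor2.IsFinLocFreeOfDeg d D.proj := by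
  have hfin : IsFinite D.proj := D.prop_proj (P := @IsFinite) fun W => by
    rw [IsFinite.SpecMap_iff, CommRingCat.hom_ofHom, RingHom.finite_algebraMap]
    exact (D.finite_alg hd W).1
  have hflat : Flat D.proj := D.prop_proj (P := @Flat) fun W => by
    rw [HasRingHomProperty.Spec_iff (P := @Flat), CommRingCat.hom_ofHom, RingHom.flat_algebraMap_iff]
    have := (D.finite_alg hd W).2
    infer_instance
  have hlfp : LocallyOfFinitePresentation D.proj := D.prop_proj (P := @LocallyOfFinitePresentation) fun W => by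
    rw [HasRingHomProperty.Spec_iff (P := @LocallyOfFinitePresentation), CommRingCat.hom_ofHom,
      RingHom.finitePresentation_algebraMap]
    exact inferInstanceAs (Algebra.FinitePresentation Γ(X, W.1.1) (AdjoinRoot _))
  refine ⟨⟨hfin, hflat, hlfp⟩, fun y => ?_⟩
  obtain ⟨W, hy, -⟩ := D.cover (O := ⊤) (x := y) trivial
  obtain ⟨p, rfl⟩ : y ∈ Set.range W.1.2.fromSpec := W.1.2.range_fromSpec.symm ▸ hy
  have := (D.finite_alg hd W).1
  have := (D.finite_alg hd W).2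
  rw [← Scheme.Hom.finrank_of_isPullback _ _ _ _ (D.isPullback_chart W).flip p]
  show Scheme.Hom.finrank (D.q W) p = d
  have : Nontrivial Γ(X, W.1.1) := PrimeSpectrum.nontrivial p
  rw [Scheme.Hom.finrank_SpecMap_algebraMap, Module.rankAtStalk_eq_finrank_of_free,
    PowerBasis.finrank (AdjoinRoot.powerBasis' (Polynomial.monic_X_pow_sub_C (D.a W) hd.ne'))]
  exact Polynomial.natDegree_X_pow_sub_C

theorem Datum.etale (hd : 0 < d) (hu : ∀ W : D.Idx, IsUnit ((d : ℕ) : Γ(X, W.1.1))) : Etale D.proj := by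
  refine D.prop_proj (P := @Etale) fun W => ?_
  rw [HasRingHomProperty.Spec_iff (P := @Etale), CommRingCat.hom_ofHom, RingHom.etale_algebraMap]
  refine Hensel.etale_adjoinRoot (Polynomial.monic_X_pow_sub_C _ hd.ne') ?_
  rw [Polynomial.derivative_sub, Polynomial.derivative_X_pow, Polynomial.derivative_C, sub_zero, map_mul,
    Polynomial.aeval_C, map_pow, Polynomial.aeval_X]
  exact ((hu W).map _).mul ((isUnit_rt hd (D.a_unit W)).pow _)

end Groth.Agent.CycCover
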