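import Groth.Agent.CycCover.Glue
import Groth.Agent.TorCov.Basic
import Groth.Agent.H23.GeomConnGamma

/-!
The cyclic cover defined by a trivialised power of an invertible module.
-/

set_option autoImplicit false
set_option linter.style.haveILetI false
set_option linter.unusedSectionVars false
set_option backward.isDefEq.respectTransparency false
set_option backward.isDefEq.respectTransparency.types false

universe u

open CategoryTheory AlgebraicGeometry TopologicalSpace

namespace Groth.Agent.CycCover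

open Groth.Agent Groth.Agent.AModX

variable {X : Scheme.{u}} {L : X.Modules} {d : ℕ}

/-- The datum of the cover of a module with a global frame of its `d`-th power. -/
theorem exists_datum (hL : PicF.IsInvertible L) {t : Γ(CohB1.tensorPow L d, ⊤)} (ht : InvX.IsFrame t) :
    ∃ (D : Datum X d) (e : ∀ W : D.Idx, Γ(L, W.1.1)), (∀ W, InvX.IsFrame (e W)) ∧
      ∀ (W W' : D.Idx) (h : W.1.1 ≤ W'.1.1), res L h (e W') = D.b W W' h • e W := by
  let P : X.affineOpens → Prop := fun W => ∃ e : Γ(L, W.1), InvX.IsFrame e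
  choose e he using fun W : {W // P W} => W.2
  choose a ha using fun W : {W // P W} => ht.exists_coord (le_top : W.1.1 ≤ ⊤) (TorCov.powSect (e W) d)
  choose b hb using fun (W W' : {W // P W}) (h : W.1.1 ≤ W'.1.1) =>
    (he W).exists_coord le_rfl (res L h (e W'))
  have hb' : ∀ W W' h, res L h (e W') = b W W' h • e W := fun W W' h => by rw [hb W W' h, res_self]
  refine ⟨{
    P := P
    cover := fun {O x} hx => ?_
    a := a
    a_unit := fun W => TorCov.isUnit_coord (ht.res le_top) (TorCov.isFrame_powSect (he W) d) (ha W)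
    b := b
    b_unit := fun W W' h => TorCov.isUnit_coord (he W) ((he W').res h) (hb' W W' h)
    b_self := fun W h => (he W).coord_unique le_rfl (by rw [← hb W W h, one_smul])
    b_comp := fun W W' W'' h h' => (he W).coord_unique le_rfl ?_
    b_pow := fun W W' h => ?_ }, e, he, hb'⟩
  · obtain ⟨V, hxV, s, hs⟩ := InvX.exists_frame hL x
    obtain ⟨_, ⟨W, hW, rfl⟩, hxW, hle⟩ := X.isBasis_affineOpens.exists_subset_of_mem_open
      (show x ∈ (O ⊓ V : X.Opens) from ⟨hx, hxV⟩) (O ⊓ V).2
    exact ⟨⟨⟨W, hW⟩, _, hs.res (fun p hp => (hle hp).2)⟩, hxW, fun p hp => (hle hp).1⟩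
  · rw [res_self, ← hb', mul_comm, mul_smul, ← hb', ← res_smul, ← hb', res_res]
  · refine ht.coord_unique (le_top : W.1.1 ≤ ⊤) ?_
    rw [mul_comm, mul_smul, ← ha, ← TorCov.powSect_smul, ← hb', ← TorCov.res_powSect, ha, res_smul, res_res]

variable (D : Datum X d)

/-- Small opens below two given ones. -/
theorem Datum.exists_common (W W' : D.Idx) {p : X} (hp : p ∈ W.1.1 ⊓ W'.1.1) :
    ∃ W'' : D.Idx, p ∈ W''.1.1 ∧ W''.1.1 ≤ W.1.1 ⊓ W'.1.1 := D.cover hp

/-- The module becomes trivial on the cover. -/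
theorem nonempty_iso_pullback (hd : 0 < d) (e : ∀ W : D.Idx, Γ(L, W.1.1)) (he : ∀ W, InvX.IsFrame (e W))
    (hb : ∀ (W W' : D.Idx) (h : W.1.1 ≤ W'.1.1), res L h (e W') = D.b W W' h • e W) :
    Nonempty ((Scheme.Modules.pullback D.proj).obj L ≅ Coh.structureModule D.space) := by
  choose v hv using fun W => (D.isUnit_T hd W).exists_left_inv
  refine TorCov.nonempty_iso_of_units (fun W : D.Idx => D.proj ⁻¹ᵁ W.1.1)
    (fun p => (D.cover (O := ⊤) (x := D.proj p) trivial).imp fun W h => h.1)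
    (fun W => InvX.pullElt D.proj (e W)) (fun W => InvX.isFrame_pullElt _ (he W)) v
    (fun W => IsUnit.of_mul_eq_one _ (hv W)) fun W W' g hg => ?_
  refine eq_of_locally (M := Coh.structureModule D.space) _ _ fun p hp => ?_
  obtain ⟨W'', hpW, hle⟩ := D.exists_common W W' (p := D.proj p) hp
  have h1 : W''.1.1 ≤ W.1.1 := hle.trans inf_le_left
  have h2 : W''.1.1 ≤ W'.1.1 := hle.trans inf_le_right
  have hle' : D.proj ⁻¹ᵁ W''.1.1 ≤ D.proj ⁻¹ᵁ W.1.1 ⊓ D.proj ⁻¹ᵁ W'.1.1 := D.proj.preimage_mono hle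
  refine ⟨_, hle', hpW, ?_⟩
  show resR hle' (resR inf_le_right (v W') * g) = resR hle' (resR inf_le_left (v W))
  rw [map_mul, resR_resR, resR_resR]
  have hg' := congrArg (res _ hle') hg
  rw [res_res, res_smul, res_res, InvX.res_pullElt D.proj h2, InvX.res_pullElt D.proj h1, hb _ _ h2, hb _ _ h1,
    InvX.pullElt_smul, InvX.pullElt_smul, ← mul_smul] at hg'
  have hu : D.proj.app W''.1.1 (D.b W'' W' h2) = resR hle' g * D.proj.app W''.1.1 (D.b W'' W h1) :=
    (InvX.isFrame_pullElt D.proj (he W'')).coord_unique le_rfl (by simpa only [res_self] using hg')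
  have e1 := congrArg (resR (D.proj.preimage_mono h1)) (hv W)
  have e2 := congrArg (resR (D.proj.preimage_mono h2)) (hv W')
  rw [map_mul, map_one, D.res_T h1] at e1
  rw [map_mul, map_one, D.res_T h2, hu] at e2
  linear_combination (resR (D.proj.preimage_mono h1) (v W)) * e2 -
    (resR (D.proj.preimage_mono h2) (v W') * resR hle' g) * e1

/-- Compatible functions on the small opens glue. -/
theorem Datum.exists_glue_fun (c : ∀ W : D.Idx, Γ(X, W.1.1))
    (hc : ∀ (W W' : D.Idx) (h : W.1.1 ≤ W'.1.1), resR h (c W') = c W) :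
    ∃ C : Γ(X, ⊤), ∀ W : D.Idx, resR (le_top : W.1.1 ≤ ⊤) C = c W := by
  obtain ⟨C, hC, -⟩ := existsUnique_glue (M := Coh.structureModule X) (V := ⊤) (fun W : D.Idx => W.1.1)
    (fun _ => le_top) (fun p _ => (D.cover (O := ⊤) (x := p) trivial).imp fun W h => h.1) c fun W W' => by
      refine eq_of_locally (M := Coh.structureModule X) _ _ fun p hp => ?_
      obtain ⟨W'', hpW, hle⟩ := D.exists_common W W' hp
      refine ⟨_, hle, hpW, ?_⟩
      show resR hle (resR inf_le_left (c W)) = resR hle (resR inf_le_right (c W'))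
      rw [resR_resR, resR_resR, hc, hc]
  exact ⟨C, hC⟩

/-- A family transforming like a section of a power is zero, or trivialises that power. -/
theorem eq_zero_or_nonempty_iso [IsReduced X] (hfield : IsField (Γ(X, ⊤) : Type u)) (hd : 0 < d) (i : ℕ)
    (e : ∀ W : D.Idx, Γ(L, W.1.1)) (he : ∀ W, InvX.IsFrame (e W))
    (hb : ∀ (W W' : D.Idx) (h : W.1.1 ≤ W'.1.1), res L h (e W') = D.b W W' h • e W)
    (c : ∀ W : D.Idx, Γ(X, W.1.1))
    (hc : ∀ (W W' : D.Idx) (h : W.1.1 ≤ W'.1.1), c W = D.b W W' h ^ i * resR h (c W')) :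
    (∀ W, c W = 0) ∨ Nonempty (CohB1.tensorPow L i ≅ Coh.structureModule X) := by
  obtain ⟨C, hC⟩ := D.exists_glue_fun (fun W => c W ^ d * D.a W ^ i) fun W W' h => by
    rw [map_mul, map_pow, map_pow, ← D.b_pow W W' h, hc W W' h]
    ring
  by_cases hC0 : C = 0
  · refine Or.inl fun W => ?_
    have h := hC W
    rw [hC0, map_zero] at h
    have h' : c W ^ d = 0 := ((D.a_unit W).pow i).mul_left_eq_zero.1 h.symm
    exact eq_zero_of_pow_eq_zero h'
  · refine Or.inr ?_
    have hCu : IsUnit C := IsUnit.of_mul_eq_one _ (hfield.mul_inv_cancel hC0).choose_spec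
    rcases Nat.eq_zero_or_pos i with rfl | hi
    · exact ⟨Iso.refl _⟩
    have hcu : ∀ W, IsUnit (c W) := fun W =>
      (isUnit_pow_iff hd.ne').1 (isUnit_of_mul_isUnit_left (hC W ▸ hCu.map (resR le_top)))
    refine TorCov.nonempty_iso_of_units (fun W : D.Idx => W.1.1)
      (fun p => (D.cover (O := ⊤) (x := p) trivial).imp fun W h => h.1)
      (fun W => TorCov.powSect (e W) i) (fun W => TorCov.isFrame_powSect (he W) i) c hcu fun W W' g hg => ?_
    refine eq_of_locally (M := Coh.structureModule X) _ _ fun p hp => ?_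
    obtain ⟨W'', hpW, hle⟩ := D.exists_common W W' hp
    have h1 : W''.1.1 ≤ W.1.1 := hle.trans inf_le_left
    have h2 : W''.1.1 ≤ W'.1.1 := hle.trans inf_le_right
    refine ⟨_, hle, hpW, ?_⟩
    show resR hle (resR inf_le_right (c W') * g) = resR hle (resR inf_le_left (c W))
    rw [map_mul, resR_resR, resR_resR]
    have hg' := congrArg (res _ hle) hg
    rw [res_res, res_smul, res_res, TorCov.res_powSect h2, TorCov.res_powSect h1, hb _ _ h2, hb _ _ h1,
      TorCov.powSect_smul, TorCov.powSect_smul, ← mul_smul] at hg'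
    have hu : D.b W'' W' h2 ^ i = resR hle g * D.b W'' W h1 ^ i :=
      (TorCov.isFrame_powSect (he W'') i).coord_unique le_rfl (by simpa only [res_self] using hg')
    refine ((D.b_unit W'' W h1).pow i).mul_left_cancel ?_
    linear_combination (hc W'' W h1) - (hc W'' W' h2) - resR h2 (c W') * hu

/-- All global functions come from the base when no smaller power is trivial. -/
theorem exists_appTop_eq [IsReduced X] (hfield : IsField (Γ(X, ⊤) : Type u)) (hd : 0 < d)
    (hmin : ∀ i : ℕ, 0 < i → i < d → IsEmpty (CohB1.tensorPow L i ≅ Coh.structureModule X))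
    (e : ∀ W : D.Idx, Γ(L, W.1.1)) (he : ∀ W, InvX.IsFrame (e W))
    (hb : ∀ (W W' : D.Idx) (h : W.1.1 ≤ W'.1.1), res L h (e W') = D.b W W' h • e W)
    (f : Γ(D.space, ⊤)) : ∃ C, D.proj.appTop C = f := by
  choose c hc using fun W : D.Idx => (existsUnique_repr hd (D.a W) (D.θ W (resR le_top f))).exists
  have hcc : ∀ (W W' : D.Idx) (h : W.1.1 ≤ W'.1.1) (i : Fin d),
      c W i = D.b W W' h ^ (i : ℕ) * resR h (c W' i) := fun W W' h => congrFun <| by
    refine (existsUnique_repr hd (D.a W) (D.θ W (resR le_top f))).unique (hc W) ?_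
    have h1 := congrArg (D.φ h) (hc W')
    rw [← D.θ_res h, resR_resR] at h1
    rw [h1, map_sum]
    refine Finset.sum_congr rfl fun i _ => ?_
    rw [map_mul, map_pow, D.φ_alg, D.φ_rt, map_mul, map_pow, mul_pow]
    ring
  have hz : ∀ (i : Fin d), (i : ℕ) ≠ 0 → ∀ W, c W i = 0 := fun i hi =>
    (eq_zero_or_nonempty_iso D hfield hd i e he hb (fun W => c W i) fun W W' h => hcc W W' h i).resolve_right
      fun ⟨φ⟩ => (hmin i (Nat.pos_of_ne_zero hi) i.2).false φ
  obtain ⟨C, hC⟩ := D.exists_glue_fun (fun W => c W ⟨0, hd⟩) fun W W' h => by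
    rw [hcc W W' h ⟨0, hd⟩]
    simp
  refine ⟨C, eq_of_locally (M := Coh.structureModule D.space) _ _ fun p _ => ?_⟩
  obtain ⟨W, hpW, -⟩ := D.cover (O := ⊤) (x := D.proj p) trivial
  refine ⟨D.proj ⁻¹ᵁ W.1.1, le_top, hpW, (D.θ_bijective W).1 ?_⟩
  show D.θ W (resR _ (D.proj.app ⊤ C)) = D.θ W (resR _ f)
  rw [← TorCov.app_resR D.proj (le_top : W.1.1 ≤ ⊤), D.θ_app, hC, hc W,
    Finset.sum_eq_single (⟨0, hd⟩ : Fin d) (fun i _ hi => by
      rw [hz i (fun h0 => hi (Fin.ext h0)) W, map_zero, zero_mul])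
      (fun h => absurd (Finset.mem_univ _) h)]
  simp

/-- The cover is connected. -/
theorem connectedSpace_space [IsReduced X] [Nonempty X] (hfield : IsField (Γ(X, ⊤) : Type u)) (hd : 0 < d)
    (hmin : ∀ i : ℕ, 0 < i → i < d → IsEmpty (CohB1.tensorPow L i ≅ Coh.structureModule X))
    (e : ∀ W : D.Idx, Γ(L, W.1.1)) (he : ∀ W, InvX.IsFrame (e W))
    (hb : ∀ (W W' : D.Idx) (h : W.1.1 ≤ W'.1.1), res L h (e W') = D.b W W' h • e W) :
    ConnectedSpace D.space := by
  obtain ⟨⟨hfin, hflat, hlfp⟩, hdeg⟩ := D.isFinLocFreeOfDeg hd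
  haveI := hfin
  haveI := hflat
  haveI := hlfp
  haveI : Surjective D.proj := (Scheme.Hom.one_le_finrank_iff_surjective D.proj).1 fun y => by
    rw [hdeg]; exact hd
  haveI : Nonempty D.space := by
    obtain ⟨x⟩ := ‹Nonempty X›
    exact ⟨(D.proj.surjective x).choose⟩
  haveI : Nonempty (⊤ : D.space.Opens) := ⟨⟨Classical.arbitrary _, trivial⟩⟩
  haveI : Nontrivial Γ(D.space, ⊤) := inferInstance
  letI := hfield.toField
  refine H23.GeomConnGamma.connectedSpace_of_idem fun ε hε => ?_
  obtain ⟨C, rfl⟩ := exists_appTop_eq D hfield hd hmin e he hb ε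
  have hC : C * C = C := D.proj.appTop.hom.injective (by rw [map_mul]; exact hε)
  rcases mul_eq_zero.1 (show C * (C - 1) = 0 by rw [mul_sub, hC, mul_one, sub_self]) with h | h
  · exact Or.inl (by rw [h, map_zero])
  · exact Or.inr (by rw [sub_eq_zero.1 h, map_one])

end Groth.Agent.CycCover
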